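-- Team project CHO (S1083): package [ST-B2-0] (helper68).
import Mathlib
import Cfsg.Agent.Lib.Helper99.CHO.Defs2
import Cfsg.Agent.Lib.Helper46.CHO.FinB2
import Cfsg.Agent.Lib.Helper10.CHO.Ro

set_option autoImplicit false
open scoped MatrixGroups
open Matrix

namespace Cfsg.Agent.Lib.Helper68.CHO
open Cfsg.Agent.Lib.Helper99.CHO

universe u

section
variable {K : Type u} [Field K]

/-- the vector with coordinates `(x0; x1, x2; y1, y2)`. -/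
def mk5 (x0 x1 x2 y1 y2 : K) : Unit ⊕ (Fin 2 ⊕ Fin 2) → K
  | Sum.inl _ => x0
  | Sum.inr (Sum.inl i) => if i = 0 then x1 else x2
  | Sum.inr (Sum.inr i) => if i = 0 then y1 else y2

omit [Field K] in
theorem mk5_eta (v : Unit ⊕ (Fin 2 ⊕ Fin 2) → K) :
    v = mk5 (v (Sum.inl ())) (v (Sum.inr (Sum.inl 0))) (v (Sum.inr (Sum.inl 1)))
      (v (Sum.inr (Sum.inr 0))) (v (Sum.inr (Sum.inr 1))) := by
  funext i
  rcases i with ⟨⟩ | (i | i)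
  · rfl
  · fin_cases i <;> simp [mk5]
  · fin_cases i <;> simp [mk5]

theorem mk5_zero : mk5 (0 : K) 0 0 0 0 = 0 := by
  funext i
  rcases i with ⟨⟩ | (i | i) <;> simp [mk5]

theorem quad_mk5 (x0 x1 x2 y1 y2 : K) :
    Cfsg.quadFormOdd 2 K (mk5 x0 x1 x2 y1 y2) = x0 ^ 2 + x1 * y1 + x2 * y2 := by
  simp [Cfsg.quadFormOdd, mk5, Fin.sum_univ_two]
  ring

theorem eB_eq : eB K 0 = mk5 0 1 0 0 0 := by
  funext i
  rcases i with ⟨⟩ | (i | i)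
  · simp [eB, mk5]
  · fin_cases i <;> simp [eB, mk5]
  · fin_cases i <;> simp [eB, mk5]

theorem fB_eq : fB K 0 = mk5 0 0 0 1 0 := by
  funext i
  rcases i with ⟨⟩ | (i | i)
  · simp [fB, mk5]
  · fin_cases i <;> simp [fB, mk5]
  · fin_cases i <;> simp [fB, mk5]

theorem smul_mk5 (a x0 x1 x2 y1 y2 : K) :
    a • mk5 x0 x1 x2 y1 y2 = mk5 (a * x0) (a * x1) (a * x2) (a * y1) (a * y2) := by
  funext i
  rcases i with ⟨⟩ | (i | i)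
  · simp [mk5]
  · fin_cases i <;> simp [mk5]
  · fin_cases i <;> simp [mk5]

theorem act0 (t x0 x1 x2 y1 y2 : K) :
    EB2mat K 0 t *ᵥ mk5 x0 x1 x2 y1 y2 = mk5 x0 x1 x2 (y1 - t * x2) (y2 + t * x1) := by
  funext i
  rcases i with ⟨⟩ | (i | i)
  · simp [EB2mat, NB2, MB2, tab3, nListB2, mListB2, ix5, Matrix.mulVec, dotProduct,
      Fintype.sum_sum_type, Fin.sum_univ_two, mk5, Matrix.add_apply, Matrix.one_apply] <;> ring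
  · fin_cases i <;>
    simp [EB2mat, NB2, MB2, tab3, nListB2, mListB2, ix5, Matrix.mulVec, dotProduct,
      Fintype.sum_sum_type, Fin.sum_univ_two, mk5, Matrix.add_apply, Matrix.one_apply] <;> ring
  · fin_cases i <;>
    simp [EB2mat, NB2, MB2, tab3, nListB2, mListB2, ix5, Matrix.mulVec, dotProduct,
      Fintype.sum_sum_type, Fin.sum_univ_two, mk5, Matrix.add_apply, Matrix.one_apply] <;> ring

theorem act1 (t x0 x1 x2 y1 y2 : K) :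
    EB2mat K 1 t *ᵥ mk5 x0 x1 x2 y1 y2 =
      mk5 (x0 + t * x1) x1 x2 (y1 - 2 * t * x0 - t ^ 2 * x1) y2 := by
  funext i
  rcases i with ⟨⟩ | (i | i)
  · simp [EB2mat, NB2, MB2, tab3, nListB2, mListB2, ix5, Matrix.mulVec, dotProduct,
      Fintype.sum_sum_type, Fin.sum_univ_two, mk5, Matrix.add_apply, Matrix.one_apply] <;> ring
  · fin_cases i <;>
    simp [EB2mat, NB2, MB2, tab3, nListB2, mListB2, ix5, Matrix.mulVec, dotProduct,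
      Fintype.sum_sum_type, Fin.sum_univ_two, mk5, Matrix.add_apply, Matrix.one_apply] <;> ring
  · fin_cases i <;>
    simp [EB2mat, NB2, MB2, tab3, nListB2, mListB2, ix5, Matrix.mulVec, dotProduct,
      Fintype.sum_sum_type, Fin.sum_univ_two, mk5, Matrix.add_apply, Matrix.one_apply] <;> ring

theorem act3 (t x0 x1 x2 y1 y2 : K) :
    EB2mat K 3 t *ᵥ mk5 x0 x1 x2 y1 y2 = mk5 x0 x1 (x2 + t * x1) (y1 - t * y2) y2 := by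
  funext i
  rcases i with ⟨⟩ | (i | i)
  · simp [EB2mat, NB2, MB2, tab3, nListB2, mListB2, ix5, Matrix.mulVec, dotProduct,
      Fintype.sum_sum_type, Fin.sum_univ_two, mk5, Matrix.add_apply, Matrix.one_apply] <;> ring
  · fin_cases i <;>
    simp [EB2mat, NB2, MB2, tab3, nListB2, mListB2, ix5, Matrix.mulVec, dotProduct,
      Fintype.sum_sum_type, Fin.sum_univ_two, mk5, Matrix.add_apply, Matrix.one_apply] <;> ring
  · fin_cases i <;>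
    simp [EB2mat, NB2, MB2, tab3, nListB2, mListB2, ix5, Matrix.mulVec, dotProduct,
      Fintype.sum_sum_type, Fin.sum_univ_two, mk5, Matrix.add_apply, Matrix.one_apply] <;> ring

theorem act4 (t x0 x1 x2 y1 y2 : K) :
    EB2mat K 4 t *ᵥ mk5 x0 x1 x2 y1 y2 = mk5 x0 (x1 + t * x2) x2 y1 (y2 - t * y1) := by
  funext i
  rcases i with ⟨⟩ | (i | i)
  · simp [EB2mat, NB2, MB2, tab3, nListB2, mListB2, ix5, Matrix.mulVec, dotProduct,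
      Fintype.sum_sum_type, Fin.sum_univ_two, mk5, Matrix.add_apply, Matrix.one_apply] <;> ring
  · fin_cases i <;>
    simp [EB2mat, NB2, MB2, tab3, nListB2, mListB2, ix5, Matrix.mulVec, dotProduct,
      Fintype.sum_sum_type, Fin.sum_univ_two, mk5, Matrix.add_apply, Matrix.one_apply] <;> ring
  · fin_cases i <;>
    simp [EB2mat, NB2, MB2, tab3, nListB2, mListB2, ix5, Matrix.mulVec, dotProduct,
      Fintype.sum_sum_type, Fin.sum_univ_two, mk5, Matrix.add_apply, Matrix.one_apply] <;> ring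

theorem act6 (t x0 x1 x2 y1 y2 : K) :
    EB2mat K 6 t *ᵥ mk5 x0 x1 x2 y1 y2 =
      mk5 (x0 - t * y1) (x1 + 2 * t * x0 - t ^ 2 * y1) x2 y1 y2 := by
  funext i
  rcases i with ⟨⟩ | (i | i)
  · simp [EB2mat, NB2, MB2, tab3, nListB2, mListB2, ix5, Matrix.mulVec, dotProduct,
      Fintype.sum_sum_type, Fin.sum_univ_two, mk5, Matrix.add_apply, Matrix.one_apply] <;> ring
  · fin_cases i <;>
    simp [EB2mat, NB2, MB2, tab3, nListB2, mListB2, ix5, Matrix.mulVec, dotProduct,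
      Fintype.sum_sum_type, Fin.sum_univ_two, mk5, Matrix.add_apply, Matrix.one_apply] <;> ring
  · fin_cases i <;>
    simp [EB2mat, NB2, MB2, tab3, nListB2, mListB2, ix5, Matrix.mulVec, dotProduct,
      Fintype.sum_sum_type, Fin.sum_univ_two, mk5, Matrix.add_apply, Matrix.one_apply] <;> ring

theorem act7 (t x0 x1 x2 y1 y2 : K) :
    EB2mat K 7 t *ᵥ mk5 x0 x1 x2 y1 y2 = mk5 x0 (x1 + t * y2) (x2 - t * y1) y1 y2 := by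
  funext i
  rcases i with ⟨⟩ | (i | i)
  · simp [EB2mat, NB2, MB2, tab3, nListB2, mListB2, ix5, Matrix.mulVec, dotProduct,
      Fintype.sum_sum_type, Fin.sum_univ_two, mk5, Matrix.add_apply, Matrix.one_apply] <;> ring
  · fin_cases i <;>
    simp [EB2mat, NB2, MB2, tab3, nListB2, mListB2, ix5, Matrix.mulVec, dotProduct,
      Fintype.sum_sum_type, Fin.sum_univ_two, mk5, Matrix.add_apply, Matrix.one_apply] <;> ring
  · fin_cases i <;>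
    simp [EB2mat, NB2, MB2, tab3, nListB2, mListB2, ix5, Matrix.mulVec, dotProduct,
      Fintype.sum_sum_type, Fin.sum_univ_two, mk5, Matrix.add_apply, Matrix.one_apply] <;> ring

/-- `v` is the image of `u` under an element of `R` that fixes `e`. -/
def Rv (K : Type u) [Field K] (e u v : Unit ⊕ (Fin 2 ⊕ Fin 2) → K) : Prop :=
  ∃ ρ ∈ RB2 K,
    (ρ : Matrix (Unit ⊕ (Fin 2 ⊕ Fin 2)) (Unit ⊕ (Fin 2 ⊕ Fin 2)) K) *ᵥ u = v ∧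
    (ρ : Matrix (Unit ⊕ (Fin 2 ⊕ Fin 2)) (Unit ⊕ (Fin 2 ⊕ Fin 2)) K) *ᵥ e = e

theorem Rv.trans {e u v w : Unit ⊕ (Fin 2 ⊕ Fin 2) → K} (h₁ : Rv K e u v) (h₂ : Rv K e v w) :
    Rv K e u w := by
  obtain ⟨ρ₁, m₁, a₁, b₁⟩ := h₁
  obtain ⟨ρ₂, m₂, a₂, b₂⟩ := h₂
  refine ⟨ρ₂ * ρ₁, Subgroup.mul_mem _ m₂ m₁, ?_, ?_⟩
  · rw [Units.val_mul, ← Matrix.mulVec_mulVec, a₁, a₂]
  · rw [Units.val_mul, ← Matrix.mulVec_mulVec, b₁, b₂]

theorem Rv.quad (hRO : RB2 K ≤ Cfsg.isometryGroup K (Cfsg.quadFormOdd 2 K))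
    {e u v : Unit ⊕ (Fin 2 ⊕ Fin 2) → K} (h : Rv K e u v) :
    Cfsg.quadFormOdd 2 K v = Cfsg.quadFormOdd 2 K u := by
  obtain ⟨ρ, m, a, _⟩ := h
  rw [← a]
  exact hRO m u u

theorem rv_root (hU : PkgUnitB2.{u}) (r : ℕ) (hr : r < Cfsg.Lie.chevB2.nroots) (t : K)
    (e u : Unit ⊕ (Fin 2 ⊕ Fin 2) → K) (he : EB2mat K r t *ᵥ e = e) :
    Rv K e u (EB2mat K r t *ᵥ u) := by
  refine ⟨EB2 K ⟨r, hr⟩ t, Subgroup.subset_closure ⟨(⟨r, hr⟩, t), rfl⟩, ?_, ?_⟩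
  · rw [Cfsg.Agent.Lib.Helper10.CHO.coe_EB2 hU]
  · rw [Cfsg.Agent.Lib.Helper10.CHO.coe_EB2 hU]; exact he

/-! ### Step A: a nonzero singular vector is moved to a multiple of `e_1` -/

theorem stA_x1 (hU : PkgUnitB2.{u}) (x0 x1 x2 y1 y2 : K)
    (hv : mk5 x0 x1 x2 y1 y2 ≠ 0) (hQ : x0 ^ 2 + x1 * y1 + x2 * y2 = 0) :
    ∃ x0' x1' x2' y1' y2' : K, x1' ≠ 0 ∧
      Rv K 0 (mk5 x0 x1 x2 y1 y2) (mk5 x0' x1' x2' y1' y2') := by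
  by_cases hx1 : x1 = 0
  · by_cases hx2 : x2 = 0
    · by_cases hy2 : y2 = 0
      · subst hx1 hx2 hy2
        have hx0 : x0 = 0 := by
          have : x0 * x0 = 0 := by linear_combination hQ
          exact mul_self_eq_zero.mp this
        subst hx0
        have hy1 : y1 ≠ 0 := by
          intro h; subst h; exact hv mk5_zero
        have s := rv_root hU 6 (by decide) (1 : K) 0 (mk5 0 0 0 y1 0) (Matrix.mulVec_zero _)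
        rw [act6] at s
        exact ⟨_, 0 + 2 * 1 * 0 - 1 ^ 2 * y1, _, _, _, by simpa using hy1, s⟩
      · have s := rv_root hU 7 (by decide) (1 : K) 0 (mk5 x0 x1 x2 y1 y2) (Matrix.mulVec_zero _)
        rw [act7] at s
        exact ⟨_, x1 + 1 * y2, _, _, _, by rw [hx1]; simpa using hy2, s⟩
    · have s := rv_root hU 4 (by decide) (1 : K) 0 (mk5 x0 x1 x2 y1 y2) (Matrix.mulVec_zero _)
      rw [act4] at s
      exact ⟨_, x1 + 1 * x2, _, _, _, by rw [hx1]; simpa using hx2, s⟩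
  · exact ⟨x0, x1, x2, y1, y2, hx1, 1, Subgroup.one_mem _, by simp, by simp⟩

theorem stA_main (hU : PkgUnitB2.{u})
    (hRO : RB2 K ≤ Cfsg.isometryGroup K (Cfsg.quadFormOdd 2 K)) (x0 x1 x2 y1 y2 : K)
    (hx1 : x1 ≠ 0) (hQ : x0 ^ 2 + x1 * y1 + x2 * y2 = 0) :
    Rv K 0 (mk5 x0 x1 x2 y1 y2) (mk5 0 x1 0 0 0) := by
  have hx : x1⁻¹ * x1 = 1 := inv_mul_cancel₀ hx1
  have s3 := rv_root hU 3 (by decide) (-x2 * x1⁻¹) 0 (mk5 x0 x1 x2 y1 y2) (Matrix.mulVec_zero _)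
  rw [act3, show x2 + -x2 * x1⁻¹ * x1 = 0 from by linear_combination (-x2) * hx] at s3
  have s1 := rv_root hU 1 (by decide) (-x0 * x1⁻¹) 0
    (mk5 x0 x1 0 (y1 - -x2 * x1⁻¹ * y2) y2) (Matrix.mulVec_zero _)
  rw [act1, show x0 + -x0 * x1⁻¹ * x1 = 0 from by linear_combination (-x0) * hx] at s1
  have s0 := rv_root hU 0 (by decide) (-y2 * x1⁻¹) 0
    (mk5 0 x1 0 (y1 - -x2 * x1⁻¹ * y2 - 2 * (-x0 * x1⁻¹) * x0 - (-x0 * x1⁻¹) ^ 2 * x1) y2)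
    (Matrix.mulVec_zero _)
  rw [act0, show y2 + -y2 * x1⁻¹ * x1 = 0 from by linear_combination (-y2) * hx] at s0
  have key := (s3.trans s1).trans s0
  have hq := key.quad hRO
  rw [quad_mk5, quad_mk5, hQ] at hq
  have hz : y1 - -x2 * x1⁻¹ * y2 - 2 * (-x0 * x1⁻¹) * x0 - (-x0 * x1⁻¹) ^ 2 * x1 -
      -y2 * x1⁻¹ * 0 = 0 := by
    have h' : x1 * (y1 - -x2 * x1⁻¹ * y2 - 2 * (-x0 * x1⁻¹) * x0 - (-x0 * x1⁻¹) ^ 2 * x1 -
      -y2 * x1⁻¹ * 0) = 0 := by linear_combination hq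
    exact (mul_eq_zero.mp h').resolve_left hx1
  rw [hz] at key
  exact key

theorem stepA (hU : PkgUnitB2.{u})
    (hRO : RB2 K ≤ Cfsg.isometryGroup K (Cfsg.quadFormOdd 2 K))
    (v : Unit ⊕ (Fin 2 ⊕ Fin 2) → K) (hv : v ≠ 0) (hQ : Cfsg.quadFormOdd 2 K v = 0) :
    ∃ ρ ∈ RB2 K, ∃ a : K, a ≠ 0 ∧
      (ρ : Matrix (Unit ⊕ (Fin 2 ⊕ Fin 2)) (Unit ⊕ (Fin 2 ⊕ Fin 2)) K) *ᵥ v = a • eB K 0 := by
  rw [mk5_eta v] at hv hQ ⊢
  generalize v (Sum.inl ()) = x0 at hv hQ ⊢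
  generalize v (Sum.inr (Sum.inl 0)) = x1 at hv hQ ⊢
  generalize v (Sum.inr (Sum.inl 1)) = x2 at hv hQ ⊢
  generalize v (Sum.inr (Sum.inr 0)) = y1 at hv hQ ⊢
  generalize v (Sum.inr (Sum.inr 1)) = y2 at hv hQ ⊢
  rw [quad_mk5] at hQ
  obtain ⟨x0', x1', x2', y1', y2', hx1', s⟩ := stA_x1 hU x0 x1 x2 y1 y2 hv hQ
  have hQ' : x0' ^ 2 + x1' * y1' + x2' * y2' = 0 := by
    have := s.quad hRO
    rw [quad_mk5, quad_mk5, hQ] at this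
    exact this
  obtain ⟨ρ, hρ, e, _⟩ := s.trans (stA_main hU hRO x0' x1' x2' y1' y2' hx1' hQ')
  refine ⟨ρ, hρ, x1', hx1', ?_⟩
  rw [e, eB_eq, smul_mk5]
  simp

/-! ### Step B: the image of `f_1` is moved to `a⁻¹ f_1` by elements fixing `e_1` -/

theorem stepB (hU : PkgUnitB2.{u})
    (hRO : RB2 K ≤ Cfsg.isometryGroup K (Cfsg.quadFormOdd 2 K))
    (w : Unit ⊕ (Fin 2 ⊕ Fin 2) → K) (b : K) (hb : b ≠ 0) (hw : w (Sum.inr (Sum.inr 0)) = b)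
    (hQ : Cfsg.quadFormOdd 2 K w = 0) :
    ∃ ρ ∈ RB2 K,
      (ρ : Matrix (Unit ⊕ (Fin 2 ⊕ Fin 2)) (Unit ⊕ (Fin 2 ⊕ Fin 2)) K) *ᵥ w = b • fB K 0 ∧
      (ρ : Matrix (Unit ⊕ (Fin 2 ⊕ Fin 2)) (Unit ⊕ (Fin 2 ⊕ Fin 2)) K) *ᵥ eB K 0 = eB K 0 := by
  rw [mk5_eta w, hw] at hQ
  rw [mk5_eta w, hw, eB_eq, fB_eq]
  generalize w (Sum.inl ()) = x0 at hQ ⊢
  generalize w (Sum.inr (Sum.inl 0)) = x1 at hQ ⊢
  generalize w (Sum.inr (Sum.inl 1)) = x2 at hQ ⊢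
  generalize w (Sum.inr (Sum.inr 1)) = y2 at hQ ⊢
  have hx : b⁻¹ * b = 1 := inv_mul_cancel₀ hb
  have e6 : ∀ t : K, EB2mat K 6 t *ᵥ mk5 0 1 0 0 0 = mk5 0 1 0 0 0 := by
    intro t; rw [act6]; congr 1 <;> ring
  have e7 : ∀ t : K, EB2mat K 7 t *ᵥ mk5 0 1 0 0 0 = mk5 0 1 0 0 0 := by
    intro t; rw [act7]; congr 1 <;> ring
  have e4 : ∀ t : K, EB2mat K 4 t *ᵥ mk5 0 1 0 0 0 = mk5 0 1 0 0 0 := by
    intro t; rw [act4]; congr 1 <;> ring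
  have s6 := rv_root hU 6 (by decide) (x0 * b⁻¹) (mk5 0 1 0 0 0) (mk5 x0 x1 x2 b y2) (e6 _)
  rw [act6, show x0 - x0 * b⁻¹ * b = 0 from by linear_combination (-x0) * hx] at s6
  have s7 := rv_root hU 7 (by decide) (x2 * b⁻¹) (mk5 0 1 0 0 0)
    (mk5 0 (x1 + 2 * (x0 * b⁻¹) * x0 - (x0 * b⁻¹) ^ 2 * b) x2 b y2) (e7 _)
  rw [act7, show x2 - x2 * b⁻¹ * b = 0 from by linear_combination (-x2) * hx] at s7
  have s4 := rv_root hU 4 (by decide) (y2 * b⁻¹) (mk5 0 1 0 0 0)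
    (mk5 0 (x1 + 2 * (x0 * b⁻¹) * x0 - (x0 * b⁻¹) ^ 2 * b + x2 * b⁻¹ * y2) 0 b y2) (e4 _)
  rw [act4, show y2 - y2 * b⁻¹ * b = 0 from by linear_combination (-y2) * hx] at s4
  have key := (s6.trans s7).trans s4
  have hq := key.quad hRO
  rw [quad_mk5, hQ] at hq
  have hz : x1 + 2 * (x0 * b⁻¹) * x0 - (x0 * b⁻¹) ^ 2 * b + x2 * b⁻¹ * y2 + y2 * b⁻¹ * 0 = 0 := by
    have h' : (x1 + 2 * (x0 * b⁻¹) * x0 - (x0 * b⁻¹) ^ 2 * b + x2 * b⁻¹ * y2 + y2 * b⁻¹ * 0) * b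
        = 0 := by linear_combination hq
    exact (mul_eq_zero.mp h').resolve_right hb
  rw [hz] at key
  obtain ⟨ρ, hρ, e, e'⟩ := key
  refine ⟨ρ, hρ, ?_, e'⟩
  rw [e, smul_mk5]
  simp

end

/-- [ST-B2-0] from [UNIT-B2] and [ISO-B2]. -/
theorem pkgStB20_of (hU : PkgUnitB2.{u}) (hI : PkgIsoB2.{u}) : PkgStB2.{u} 0 := by
  intro K _ g hg _
  have hRO : RB2 K ≤ Cfsg.isometryGroup K (Cfsg.quadFormOdd 2 K) :=
    Cfsg.Agent.Lib.Helper10.CHO.pkgRoB2_of hU hI K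
  have hQe : Cfsg.quadFormOdd 2 K (eB K 0) = 0 := by rw [eB_eq, quad_mk5]; ring
  have hQf : Cfsg.quadFormOdd 2 K (fB K 0) = 0 := by rw [fB_eq, quad_mk5]; ring
  have hQv : Cfsg.quadFormOdd 2 K
      ((g : Matrix (Unit ⊕ (Fin 2 ⊕ Fin 2)) (Unit ⊕ (Fin 2 ⊕ Fin 2)) K) *ᵥ eB K 0) = 0 := by
    rw [Cfsg.Agent.Lib.Helper46.CHO.iso_quadB hg, hQe]
  have hv0 : (g : Matrix (Unit ⊕ (Fin 2 ⊕ Fin 2)) (Unit ⊕ (Fin 2 ⊕ Fin 2)) K) *ᵥ eB K 0 ≠ 0 := by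
    intro h
    have h' : ((g⁻¹ : GL (Unit ⊕ (Fin 2 ⊕ Fin 2)) K) :
        Matrix (Unit ⊕ (Fin 2 ⊕ Fin 2)) (Unit ⊕ (Fin 2 ⊕ Fin 2)) K) *ᵥ
        ((g : Matrix (Unit ⊕ (Fin 2 ⊕ Fin 2)) (Unit ⊕ (Fin 2 ⊕ Fin 2)) K) *ᵥ eB K 0) = eB K 0 := by
      rw [Matrix.mulVec_mulVec, ← Units.val_mul, inv_mul_cancel, Units.val_one, Matrix.one_mulVec]
    rw [h, Matrix.mulVec_zero] at h'
    have h'' := congrFun h' (Sum.inr (Sum.inl 0))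
    simp [eB] at h''
  obtain ⟨ρ₁, hρ₁, a, ha, h1⟩ := stepA hU hRO _ hv0 hQv
  have hg1 : ρ₁ * g ∈ Cfsg.isometryGroup K (Cfsg.quadFormOdd 2 K) :=
    Subgroup.mul_mem _ (hRO hρ₁) hg
  have he1 : ((ρ₁ * g : GL (Unit ⊕ (Fin 2 ⊕ Fin 2)) K) :
      Matrix (Unit ⊕ (Fin 2 ⊕ Fin 2)) (Unit ⊕ (Fin 2 ⊕ Fin 2)) K) *ᵥ eB K 0 = a • eB K 0 := by
    rw [Units.val_mul, ← Matrix.mulVec_mulVec]; exact h1
  have hQw : Cfsg.quadFormOdd 2 K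
      (((ρ₁ * g : GL (Unit ⊕ (Fin 2 ⊕ Fin 2)) K) :
        Matrix (Unit ⊕ (Fin 2 ⊕ Fin 2)) (Unit ⊕ (Fin 2 ⊕ Fin 2)) K) *ᵥ fB K 0) = 0 := by
    rw [Cfsg.Agent.Lib.Helper46.CHO.iso_quadB hg1, hQf]
  have hwf : (((ρ₁ * g : GL (Unit ⊕ (Fin 2 ⊕ Fin 2)) K) :
        Matrix (Unit ⊕ (Fin 2 ⊕ Fin 2)) (Unit ⊕ (Fin 2 ⊕ Fin 2)) K) *ᵥ fB K 0)
        (Sum.inr (Sum.inr 0)) = a⁻¹ := by
    have h := Cfsg.Agent.Lib.Helper46.CHO.iso_polB hg1 (fB K 0) (eB K 0)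
    rw [he1, Cfsg.Agent.Lib.Helper46.CHO.polB_smul_right, Cfsg.Agent.Lib.Helper46.CHO.polB_eB,
      Cfsg.Agent.Lib.Helper46.CHO.polB_eB] at h
    have h1' : (fB K 0) (Sum.inr (Sum.inr (0 : Fin 2))) = (1 : K) := by simp [fB]
    rw [h1'] at h
    rw [← mul_one a⁻¹, ← h, ← mul_assoc, inv_mul_cancel₀ ha, one_mul]
  obtain ⟨ρ₂, hρ₂, h2, h2e⟩ := stepB hU hRO _ a⁻¹ (inv_ne_zero ha) hwf hQw
  refine ⟨ρ₂ * ρ₁, Subgroup.mul_mem _ hρ₂ hρ₁, ?_⟩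
  intro i hi
  have hi0 : i = 0 := Fin.ext (by simpa using hi)
  subst hi0
  refine ⟨a, ha, ?_, ?_⟩
  · rw [mul_assoc, Units.val_mul, ← Matrix.mulVec_mulVec, he1, Matrix.mulVec_smul, h2e]
  · rw [mul_assoc, Units.val_mul, ← Matrix.mulVec_mulVec]; exact h2

end Cfsg.Agent.Lib.Helper68.CHO
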